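import Groth.Agent.Crv77.PlaneCoh

/-! Cohomology of the structure sheaf of a hypersurface of degree at most `r` in `P^r`. -/

universe u

open CategoryTheory CategoryTheory.Limits AlgebraicGeometry Opposite TopologicalSpace

noncomputable section

set_option backward.isDefEq.respectTransparency false

namespace Groth.Agent.LefPen54

open Var76 Var76.Reg Var76.LineBundle Crv77

variable {k : Type u} [Field k] {r : ℕ}

theorem hh_hypersurface_low {d : ℕ} (hd : 1 ≤ d) (hdr : d ≤ r) (G : LefPen.Form r k d) (hG : G ≠ 0)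
    [(LefPen.hypIdeal G).subscheme.Over (Spec (CommRingCat.of k))]
    (hC : (LefPen.hypIdeal G).subscheme ↘ Spec (CommRingCat.of k) =
      (LefPen.hypIdeal G).subschemeι ≫ CohB1.ProjSpace.toSpec r k) :
    (∀ i, 1 ≤ i → Subsingleton (Coh.HH (LefPen.hypIdeal G).subscheme
        (Coh.structureModule (LefPen.hypIdeal G).subscheme) i)) ∧
      Module.finrank k (Coh.HH (LefPen.hypIdeal G).subscheme
        (Coh.structureModule (LefPen.hypIdeal G).subscheme) 0) = 1 := by
  let I := LefPen.hypIdeal G
  let P := CohB1.ProjSpace r k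
  have : IsProper (P ↘ Spec (CommRingCat.of k)) := Curves2.ProjLine.isProper_toSpec k r
  obtain ⟨e⟩ := nonempty_twist_iso_hypIdeal G hG
  obtain ⟨e0⟩ := nonempty_twist_zero (n := r) (A := k)
  have hS := idealSeq_shortExact I
  have hsubI : ∀ q, Subsingleton (Coh.HH P (idealSeq I).X₁ q) := fun q => by
    have := Pn71.subsingleton_hh r k (-(d : ℤ)) q (by omega) (by omega)
    exact (hEquiv k e q).symm.toEquiv.subsingleton
  have hsubO : ∀ q, 1 ≤ q → Subsingleton (Coh.HH P (idealSeq I).X₂ q) := fun q hq => by
    have := Pn71.subsingleton_hh r k 0 q (by omega) (by omega)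
    exact (hEquiv k e0 q).symm.toEquiv.subsingleton
  have hq : ∀ q, Nonempty (Coh.HH P (idealSeq I).X₃ q ≃ₗ[k]
      Coh.HH I.subscheme (Coh.structureModule I.subscheme) q) := fun q =>
    Var76.nonempty_hhLin_push (A := k) I.subschemeι hC.symm (Coh.structureModule I.subscheme) (isCoh_quotMod I).1 q
  have hb : ∀ q, Function.Bijective (hmap k (idealSeq I).g q) := fun q => by
    refine ⟨(injective_iff_map_eq_zero _).2 fun z hz => ?_, fun z => ?_⟩
    · obtain ⟨w, rfl⟩ := (exact_f_g k hS q z).1 hz
      have := hsubI q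
      rw [Subsingleton.elim w 0, map_zero]
    · have := hsubI (q + 1)
      exact (exact_g_δ k hS q z).1 (Subsingleton.elim _ _)
  refine ⟨fun i hi => ?_, ?_⟩
  · obtain ⟨f⟩ := hq i
    have := hsubO i hi
    exact ((LinearEquiv.ofBijective _ (hb i)).trans f).symm.toEquiv.subsingleton
  · obtain ⟨f⟩ := hq 0
    rw [← ((LinearEquiv.ofBijective _ (hb 0)).trans f).finrank_eq]
    exact (hEquiv k e0 0).symm.finrank_eq.trans ((finrank_hh_twist (k := k) (n := r) 0).trans (by simp))

/-- The constants are all the functions when `h⁰(O) = 1`. -/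
theorem bijective_appTop_of_h0 (X : Scheme.{u}) [X.Over (Spec (CommRingCat.of k))]
    (h0 : Module.finrank k (Coh.HH X (Coh.structureModule X) 0) = 1) :
    Function.Bijective (X ↘ Spec (CommRingCat.of k)).appTop.hom := by
  let one : Γ(Coh.structureModule X, ⊤) := (1 : Γ(X, ⊤))
  let v := (sec (Coh.structureModule X)).symm one
  have : Nontrivial Γ(X, ⊤) := by
    by_contra h
    rw [not_nontrivial_iff_subsingleton] at h
    have h3 : Subsingleton Γ(Coh.structureModule X, ⊤) := h
    have hs : Subsingleton (Coh.HH X (Coh.structureModule X) 0) := (sec (Coh.structureModule X)).toEquiv.subsingleton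
    rw [Module.finrank_zero_of_subsingleton] at h0
    exact zero_ne_one h0
  have hv : v ≠ 0 := fun h => by
    have h2 := congrArg (sec (Coh.structureModule X)) h
    rw [AddEquiv.apply_symm_apply, map_zero] at h2
    exact one_ne_zero (α := Γ(X, ⊤)) h2
  have hsurj : Function.Surjective (Coh.toGlobal (X ↘ Spec (CommRingCat.of k))) := fun s => by
    obtain ⟨r, hr⟩ := (finrank_eq_one_iff_of_nonzero' v hv).1 h0
      ((sec (Coh.structureModule X)).symm (s : Γ(Coh.structureModule X, ⊤)))
    have h2 := congrArg (sec (Coh.structureModule X)) hr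
    rw [sec_smul k, AddEquiv.apply_symm_apply] at h2
    exact ⟨r, (mul_one _).symm.trans (h2.trans ((sec (Coh.structureModule X)).apply_symm_apply _))⟩
  have : Nontrivial (Coh.Γtop X) := ‹Nontrivial Γ(X, ⊤)›
  have hinj : Function.Injective (Coh.toGlobal (X ↘ Spec (CommRingCat.of k))) := RingHom.injective _
  have hψ : Function.Bijective ⇑(Scheme.ΓSpecIso (CommRingCat.of k)).inv.hom :=
    ConcreteCategory.bijective_of_isIso (Scheme.ΓSpecIso (CommRingCat.of k)).inv
  exact (Function.Bijective.of_comp_iff _ hψ).1 ⟨hinj, hsurj⟩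

end Groth.Agent.LefPen54
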